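import Groth.Agent.TMul.Frame
import Mathlib.Algebra.Category.ModuleCat.Presheaf.Sheafification
import Mathlib.CategoryTheory.Sites.LocallyBijective
import Mathlib.CategoryTheory.Preadditive.Injective.Basic
import Mathlib.Algebra.Category.ModuleCat.Sheaf.Generators

/-!
# Restriction of scalars to `O_X` from a finite locally free algebra preserves injectives

`T M` is the presheaf of `A`-modules `V ↦ A(V) ⊗ M(V)`; on the opens of a frame of `A` it preserves monomorphisms,
so its sheafification does, and maps out of it extend maps out of `M`.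
-/

set_option autoImplicit false
set_option backward.isDefEq.respectTransparency false
set_option backward.isDefEq.respectTransparency.types false
set_option linter.style.haveILetI false
set_option maxHeartbeats 1000000
universe u

open CategoryTheory CategoryTheory.Limits AlgebraicGeometry Opposite TopologicalSpace
open scoped TensorProduct

noncomputable section

namespace Groth.Agent.AlgTensor

variable {X : Scheme.{u}} {A : Sheaf (Opens.grothendieckTopology X) RingCat.{u}} (φ : X.ringCatSheaf ⟶ A)
  (hcen : ∀ (U : (Opens X)ᵒᵖ) (s : X.ringCatSheaf.obj.obj U) (a : A.obj.obj U),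
    φ.hom.app U s * a = a * φ.hom.app U s)

/-- the structure map on sections -/
def str (U : (Opens X)ᵒᵖ) : X.presheaf.obj U →+* A.obj.obj U := (φ.hom.app U).hom

include hcen in
lemma str_comm (U : (Opens X)ᵒᵖ) (s : X.presheaf.obj U) (a : A.obj.obj U) : str φ U s * a = a * str φ U s :=
  hcen U s a

lemma str_map {U V : (Opens X)ᵒᵖ} (f : U ⟶ V) (s : X.presheaf.obj U) :
    str φ V (X.presheaf.map f s) = A.obj.map f (str φ U s) :=
  ConcreteCategory.congr_hom (φ.hom.naturality f) s

/-- the algebra of sections -/
@[instance_reducible] def alg (U : (Opens X)ᵒᵖ) : Algebra (X.presheaf.obj U) (A.obj.obj U) :=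
  (str φ U).toAlgebra' (str_comm φ hcen U)

variable (M : X.Modules) (U : (Opens X)ᵒᵖ)

/-- sections of the tensor presheaf -/
abbrev Sec : Type u :=
  @TensorProduct (X.presheaf.obj U) _ (A.obj.obj U) (M.val.obj U) _ _ (alg φ hcen U).toModule
    (inferInstanceAs (Module (X.presheaf.obj U) (M.val.obj U)))

/-- the action of the sections of the algebra -/
instance modSec : Module (A.obj.obj U) (Sec φ hcen M U) :=
  letI := alg φ hcen U
  TensorProduct.leftModule

variable {M U}

/-- a pure tensor -/
def pt (a : A.obj.obj U) (m : M.val.obj U) : Sec φ hcen M U := letI := alg φ hcen U; a ⊗ₜ[X.presheaf.obj U] m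

lemma smul_pt (b a : A.obj.obj U) (m : M.val.obj U) : b • pt φ hcen a m = pt φ hcen (b * a) m := rfl

lemma pt_add (a : A.obj.obj U) (m m' : M.val.obj U) :
    pt φ hcen a (m + m') = pt φ hcen a m + pt φ hcen a m' :=
  letI := alg φ hcen U; TensorProduct.tmul_add a m m'

lemma add_pt (a a' : A.obj.obj U) (m : M.val.obj U) :
    pt φ hcen (a + a') m = pt φ hcen a m + pt φ hcen a' m :=
  letI := alg φ hcen U; TensorProduct.add_tmul a a' m

lemma pt_smul (a : A.obj.obj U) (r : X.presheaf.obj U) (m : M.val.obj U) :
    pt φ hcen a (r • m) = pt φ hcen (str φ U r * a) m :=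
  letI := alg φ hcen U; (TensorProduct.smul_tmul r a m).symm

@[elab_as_elim]
lemma sec_induction {P : Sec φ hcen M U → Prop} (h0 : P 0) (hpt : ∀ a m, P (pt φ hcen a m))
    (hadd : ∀ s t, P s → P t → P (s + t)) (s : Sec φ hcen M U) : P s :=
  letI := alg φ hcen U; TensorProduct.induction_on s h0 hpt hadd

/-- additive maps out of the sections from balanced maps -/
def lift {N : Type u} [AddCommGroup N] (f : A.obj.obj U → M.val.obj U → N)
    (h₁ : ∀ a a' m, f (a + a') m = f a m + f a' m) (h₂ : ∀ a m m', f a (m + m') = f a m + f a m')
    (h₃ : ∀ (r : X.presheaf.obj U) a m, f (str φ U r * a) m = f a (r • m)) : Sec φ hcen M U →+ N :=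
  letI := alg φ hcen U
  TensorProduct.liftAddHom
    (AddMonoidHom.mk' (fun a => AddMonoidHom.mk' (f a) (h₂ a)) fun a a' => by ext m; exact h₁ a a' m) h₃

lemma lift_pt {N : Type u} [AddCommGroup N] (f : A.obj.obj U → M.val.obj U → N) (h₁ h₂ h₃)
    (a : A.obj.obj U) (m : M.val.obj U) : lift φ hcen f h₁ h₂ h₃ (pt φ hcen a m) = f a m := rfl

variable (M) in
/-- restriction -/
def rmap {V : (Opens X)ᵒᵖ} (f : U ⟶ V) : Sec φ hcen M U →+ Sec φ hcen M V :=
  lift φ hcen (fun a m => pt φ hcen (A.obj.map f a) (M.val.map f m))
    (fun a a' m => by rw [map_add, add_pt])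
    (fun a m m' => by rw [map_add]; exact pt_add φ hcen _ _ _)
    (fun r a m => by
      rw [PresheafOfModules.map_smul, map_mul, ← str_map]
      exact (pt_smul φ hcen (A.obj.map f a) (X.presheaf.map f r) _).symm)

lemma rmap_pt {V : (Opens X)ᵒᵖ} (f : U ⟶ V) (a : A.obj.obj U) (m : M.val.obj U) :
    rmap φ hcen M f (pt φ hcen a m) = pt φ hcen (A.obj.map f a) (M.val.map f m) := rfl

variable (M) in
/-- the presheaf of abelian groups -/
def ab : (Opens X)ᵒᵖ ⥤ AddCommGrpCat.{u} where
  obj U := AddCommGrpCat.of (Sec φ hcen M U)
  map f := AddCommGrpCat.ofHom (rmap φ hcen M f)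
  map_id U := by
    ext s
    induction s using sec_induction with
    | h0 => simp
    | hpt a m =>
      show rmap φ hcen M (𝟙 U) (pt φ hcen a m) = _
      rw [rmap_pt]
      simp
    | hadd s t hs ht => simp only [map_add, hs, ht]
  map_comp {U V W} f g := by
    ext s
    induction s using sec_induction with
    | h0 => simp
    | hpt a m =>
      show rmap φ hcen M (f ≫ g) (pt φ hcen a m) = rmap φ hcen M g (rmap φ hcen M f (pt φ hcen a m))
      rw [rmap_pt, rmap_pt, rmap_pt]
      simp
    | hadd s t hs ht => simp only [map_add, hs, ht]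

lemma rmap_smul {V : (Opens X)ᵒᵖ} (f : U ⟶ V) (r : A.obj.obj U) (s : Sec φ hcen M U) :
    rmap φ hcen M f (r • s) = A.obj.map f r • rmap φ hcen M f s := by
  induction s using sec_induction with
  | h0 => simp
  | hpt a m => rw [smul_pt, rmap_pt, rmap_pt, smul_pt, map_mul]
  | hadd s t hs ht => simp only [smul_add, map_add, hs, ht]

variable (M) in
/-- the presheaf of modules `V ↦ A(V) ⊗ M(V)` -/
def T : PresheafOfModules.{u} A.obj :=
  @PresheafOfModules.ofPresheaf _ _ A.obj (ab φ hcen M) (fun U => modSec φ hcen M U)
    fun _ _ f r s => rmap_smul φ hcen f r s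

variable {M' : X.Modules} (f : M ⟶ M')

variable (U) in
/-- functoriality on sections -/
def fmap : Sec φ hcen M U →+ Sec φ hcen M' U :=
  lift φ hcen (fun a m => pt φ hcen a (f.val.app U m))
    (fun a a' m => add_pt φ hcen a a' _)
    (fun a m m' => by rw [map_add]; exact pt_add φ hcen _ _ _)
    (fun r a m => by
      show pt φ hcen (str φ U r * a) (f.val.app U m) = _
      exact (pt_smul φ hcen a r _).symm.trans (congrArg _ ((f.val.app U).hom.map_smul r m).symm))

/-- functoriality -/
def Tmap : T φ hcen M ⟶ T φ hcen M' :=
  PresheafOfModules.homMk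
    { app := fun U => AddCommGrpCat.ofHom (fmap φ hcen U f)
      naturality := fun U V g => by
        ext s
        change Sec φ hcen M U at s
        show fmap φ hcen V f (rmap φ hcen M g s) = rmap φ hcen M' g (fmap φ hcen U f s)
        induction s using sec_induction with
        | h0 => simp
        | hpt a m => exact congrArg (pt φ hcen _) (PresheafOfModules.naturality_apply f.val g m)
        | hadd s t hs ht => simp only [map_add, hs, ht] }
    fun U r s => by
      change Sec φ hcen M U at s
      show fmap φ hcen U f (r • s) = r • fmap φ hcen U f s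
      induction s using sec_induction with
      | h0 => simp
      | hpt a m => rfl
      | hadd s t hs ht => simp only [smul_add, map_add, hs, ht]

variable (I : SheafOfModules.{u} A) (g : M ⟶ (SheafOfModules.restrictScalars φ).obj I)

variable (U) in
/-- the adjunct on sections -/
def evs : Sec φ hcen M U →+ I.val.obj U :=
  lift φ hcen (fun a m => a • (show I.val.obj U from g.val.app U m))
    (fun a a' m => add_smul a a' _)
    (fun a m m' => by rw [map_add]; exact smul_add a _ _)
    (fun r a m => by
      show (str φ U r * a) • _ = a • _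
      rw [str_comm φ hcen, mul_smul]
      exact congrArg (a • ·) ((g.val.app U).hom.map_smul r m).symm)

/-- the adjunct -/
def ev : T φ hcen M ⟶ I.val :=
  PresheafOfModules.homMk
    { app := fun U => AddCommGrpCat.ofHom (evs φ hcen U I g)
      naturality := fun U V h => by
        ext s
        change Sec φ hcen M U at s
        show evs φ hcen V I g (rmap φ hcen M h s) = I.val.map h (evs φ hcen U I g s)
        induction s using sec_induction with
        | h0 => simp
        | hpt a m =>
          show A.obj.map h a • (show I.val.obj V from g.val.app V (M.val.map h m)) = I.val.map h (a • _)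
          rw [PresheafOfModules.map_smul]
          exact congrArg (A.obj.map h a • ·) (PresheafOfModules.naturality_apply g.val h m)
        | hadd s t hs ht => simp only [map_add, hs, ht] }
    fun U r s => by
      change Sec φ hcen M U at s
      show evs φ hcen U I g (r • s) = r • evs φ hcen U I g s
      induction s using sec_induction with
      | h0 => simp
      | hpt a m => exact mul_smul r a _
      | hadd s t hs ht => simp only [smul_add, map_add, hs, ht]

/-- a map out of the tensor presheaf restricted to `M` -/
def back (M : X.Modules) (I : SheafOfModules.{u} A) (e : T φ hcen M ⟶ I.val) :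
    M ⟶ (SheafOfModules.restrictScalars φ).obj I :=
  ⟨PresheafOfModules.homMk
    { app := fun U => AddCommGrpCat.ofHom
        (AddMonoidHom.mk' (fun m : M.val.obj U => e.app U (pt φ hcen (1 : A.obj.obj U) m))
          fun m m' => (congrArg (e.app U) (pt_add φ hcen 1 m m')).trans (map_add (e.app U).hom _ _))
      naturality := fun U V h => by
        ext m
        show e.app V (pt φ hcen 1 (M.val.map h m)) = I.val.map h (e.app U (pt φ hcen 1 m))
        rw [← PresheafOfModules.naturality_apply e h]
        refine congrArg (e.app V) ?_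
        show _ = rmap φ hcen M h (pt φ hcen 1 m)
        rw [rmap_pt, map_one] }
    fun U r m => by
      show e.app U (pt φ hcen 1 (r • m)) = str φ U r • (show I.val.obj U from e.app U (pt φ hcen 1 m))
      rw [← LinearMap.map_smul (e.app U).hom (str φ U r) (pt φ hcen 1 m)]
      exact congrArg (e.app U) (pt_smul φ hcen 1 r m)⟩

lemma fmap_injective [Mono f] (hfree : ∀ U : (Opens X)ᵒᵖ, Function.Injective (f.val.app U))
    (hflat : @Module.Flat (X.presheaf.obj U) (A.obj.obj U) _ _ (alg φ hcen U).toModule) :
    Function.Injective (fmap φ hcen U f) := by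
  letI := alg φ hcen U
  haveI : Module.Flat (X.presheaf.obj U) (A.obj.obj U) := hflat
  let l : M.val.obj U →ₗ[X.presheaf.obj U] M'.val.obj U :=
    { toFun := f.val.app U
      map_add' := map_add _
      map_smul' := fun r m => (f.val.app U).hom.map_smul r m }
  have h : ∀ s : Sec φ hcen M U, fmap φ hcen U f s = LinearMap.lTensor (A.obj.obj U) l s := fun s => by
    induction s using sec_induction with
    | h0 => simp
    | hpt a m => rfl
    | hadd s t hs ht =>
      rw [map_add, hs, ht]
      exact (map_add (LinearMap.lTensor (A.obj.obj U) l) s t).symm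
  intro s t e
  rw [h, h] at e
  exact Module.Flat.lTensor_preserves_injective_linearMap l (hfree U) e

include hcen in
theorem flat_sections {V : Opens X} {n : ℕ}
    {e : Fin n → Γ(((SheafOfModules.restrictScalars φ).obj (SheafOfModules.unit A) : X.Modules), V)}
    (he : TMul.IsFrame e) (U : (Opens X)ᵒᵖ) (hU : U.unop ≤ V) :
    @Module.Flat (X.presheaf.obj U) (A.obj.obj U) _ _ (alg φ hcen U).toModule := by
  let E := he.equiv (V := U.unop) hU
  letI := alg φ hcen U
  let E' : (Fin n → X.presheaf.obj U) ≃ₗ[X.presheaf.obj U] A.obj.obj U :=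
    { toFun := E
      map_add' := E.map_add
      map_smul' := fun r c => by
        refine Eq.trans (E.map_smul r c) ?_
        exact (Algebra.smul_def r (show A.obj.obj U from E c)).symm
      invFun := E.symm
      left_inv := E.left_inv
      right_inv := E.right_inv }
  exact Module.Flat.of_linearEquiv E'.symm

include hcen in
theorem isLocallyInjective_Tmap [Mono f]
    (hA : FlatMod.IsFinLocFree (X := X) ((SheafOfModules.restrictScalars φ).obj (SheafOfModules.unit A))) :
    Presheaf.IsLocallyInjective (Opens.grothendieckTopology X)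
      ((PresheafOfModules.toPresheaf _).map (Tmap φ hcen f)) := by
  have hinj : ∀ U : (Opens X)ᵒᵖ, Function.Injective (f.val.app U) := fun U => by
    haveI : Mono ((SheafOfModules.forget _).map f) := inferInstance
    haveI : Mono ((PresheafOfModules.evaluation _ U).map ((SheafOfModules.forget _).map f)) := inferInstance
    exact (ModuleCat.mono_iff_injective _).1 this
  refine ⟨fun {U} s t h x hx => ?_⟩
  change Sec φ hcen M U at s t
  obtain ⟨V, n, e, hxV, he⟩ := TMul.exists_isFrame hA x
  let W : Opens X := U.unop ⊓ V
  let i : W ⟶ U.unop := homOfLE inf_le_left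
  refine ⟨W, i, ?_, ⟨hx, hxV⟩⟩
  show rmap φ hcen M i.op s = rmap φ hcen M i.op t
  refine fmap_injective φ hcen f hinj (flat_sections φ hcen he _ inf_le_right) ?_
  have hn := NatTrans.naturality_apply ((PresheafOfModules.toPresheaf _).map (Tmap φ hcen f)) i.op
  exact (hn s).trans ((congrArg _ h).trans (hn t).symm)

include hcen in
/-- Restriction of scalars along a finite locally free algebra preserves injective objects. -/
theorem injective_restrictScalars
    (hA : FlatMod.IsFinLocFree (X := X) ((SheafOfModules.restrictScalars φ).obj (SheafOfModules.unit A)))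
    (I : SheafOfModules.{u} A) [Injective I] : Injective ((SheafOfModules.restrictScalars φ).obj I) := by
  refine ⟨fun {M M'} g f _ => ?_⟩
  let Fsh := PresheafOfModules.sheafification (R := A) (𝟙 A.obj)
  let adj := PresheafOfModules.sheafificationAdjunction (R := A) (𝟙 A.obj)
  haveI : Mono (Fsh.map (Tmap φ hcen f)) := by
    haveI := isLocallyInjective_Tmap φ hcen f hA
    haveI : Sheaf.IsLocallyInjective ((presheafToSheaf (Opens.grothendieckTopology X) AddCommGrpCat.{u}).map
        ((PresheafOfModules.toPresheaf _).map (Tmap φ hcen f))) :=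
      (Presheaf.isLocallyInjective_presheafToSheaf_map_iff _ _).2 inferInstance
    have h : Mono ((SheafOfModules.toSheaf A).map (Fsh.map (Tmap φ hcen f))) :=
      Sheaf.mono_of_isLocallyInjective ((presheafToSheaf (Opens.grothendieckTopology X) AddCommGrpCat.{u}).map
        ((PresheafOfModules.toPresheaf _).map (Tmap φ hcen f)))
    exact (SheafOfModules.toSheaf A).mono_of_mono_map h
  let g' : Fsh.obj (T φ hcen M) ⟶ I := (adj.homEquiv _ _).symm (ev φ hcen I g)
  let k := Injective.factorThru g' (Fsh.map (Tmap φ hcen f))
  let e : T φ hcen M' ⟶ I.val := adj.homEquiv _ _ k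
  have he : Tmap φ hcen f ≫ e = ev φ hcen I g := by
    show Tmap φ hcen f ≫ adj.homEquiv _ _ k = _
    rw [← adj.homEquiv_naturality_left, Injective.comp_factorThru]
    exact (adj.homEquiv _ _).apply_symm_apply _
  refine ⟨back φ hcen M' I e, ?_⟩
  ext U m
  show e.app U (pt φ hcen 1 (f.val.app U m)) = g.val.app U m
  have h := congr($(he).app U (pt φ hcen 1 m))
  exact h.trans (one_smul (A.obj.obj U) _)

end Groth.Agent.AlgTensor

end
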